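import Cfsg.Agent.L33E.Defs
import Cfsg.Agent.Gold.Defs

/-!
# The centraliser of a 2-central involution in a group of `PSp₆(3)` type: definitions
-/

set_option autoImplicit false

namespace Cfsg.Lib.L33A

open Subgroup Cfsg.Lib.L33E Cfsg.Lib.Gold

/-- `r₁, r₃, i₁, j₁, i₂, j₂, i₃, j₃, σ` (codes 1, 2, 4, .., 256) -/
def DT : Tw := [([], 0), ([1], 0), ([1, 2], 1), ([1, 2, 5], 1), ([1, 2, 4, 8], 3),
  ([1, 2, 4, 8, 19], 3), ([1, 2, 4, 8, 16, 32], 2), ([1, 2, 4, 8, 16, 32, 66], 2),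
  ([3, 2, 16, 32, 4, 8, 64, 128], 0)]

/-- `r, i₁, j₁, i₂, j₂, σ` (codes 1, 2, .., 32): a Sylow 2-subgroup of `PSp₄(3)` -/
def DR : Tw := [([], 0), ([1], 1), ([1, 3], 1), ([1, 2, 4], 1), ([1, 2, 4, 9], 1),
  ([1, 8, 16, 2, 4], 0)]

variable {G : Type*} [Group G]

/-- what is known about the centraliser of `t` -/
structure FR (X : Subgroup G) (t : G) : Prop where
  t2 : t * t = 1
  sol : ∀ v, v * v = 1 → v ≠ 1 → v ≠ t → Commute v t → Group.IsSolvable ↥(C1 t ⊓ C1 v)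
  lt : ∃ L : Subgroup G, L ≤ X ∧ Nonempty (L ≃* Matrix.SpecialLinearGroup (Fin 3) (ZMod 3)) ∧
    C1 t ≤ Ns L ∧ ∀ v ∈ ⁅C1 t, C1 t⁆, v * v = 1 → v ∈ L

/-- the centraliser `H` of `r₃` in `X`, as an abstract group -/
structure HC (r1 r3 i1 j1 i2 j2 i3 j3 σ : G) : Prop where
  sat : Sat DT [r1, r3, i1, j1, i2, j2, i3, j3, σ]
  syl : Syl [r1, r3, i1, j1, i2, j2, i3, j3, σ]
  cen : r3 ∈ center G
  rho3 : Fus [i1, j1, i2, j2, σ, i3, j3] [i1, j1, i2, j2, σ, j3, i3 * j3]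
  rho1 : Fus [i1, j1, i2, j2, i3, j3] [j1, i1 * j1, i2, j2, i3, j3]
  ef : Fus [r1, i3, j3] [σ, i3, j3]
  scl : ∀ y ∈ gen [r1, r3, i1, j1, i2, j2, i3, j3, σ], y * y = r3 → IsConj (i3 * j3) y →
    y ∈ gen [i3, j3]
  sol : Group.IsSolvable ↥(C1 r1)

/-- the quotient `H / ⟨r₃⟩ O(H)`; a Sylow 2-subgroup is `R × A`, `A = {1, a, b, a b}` -/
structure Bar (r i1 j1 i2 j2 σ a b : G) : Prop where
  sat : Sat DR [r, i1, j1, i2, j2, σ]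
  a2 : a * a = 1
  b2 : b * b = 1
  a1 : a ≠ 1
  b1 : b ≠ 1
  ab : a ≠ b
  cab : Commute a b
  cR : ∀ x ∈ gen [r, i1, j1, i2, j2, σ], ∀ y ∈ gen [a, b], Commute x y
  disj : gen [r, i1, j1, i2, j2, σ] ⊓ gen [a, b] = ⊥
  syl : ∃ T : Sylow 2 G, (T : Subgroup G) = gen [r, i1, j1, i2, j2, σ] ⊔ gen [a, b]
  odd : Cfsg.oddCore G = ⊥
  sc : Cfsg.IsStronglyClosed (gen [a, b]) (gen [r, i1, j1, i2, j2, σ] ⊔ gen [a, b])
  rho3 : Fus [r, a, b] [r, b, a * b]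
  rho1 : Fus [i1, j1, i2, j2, a, b] [j1, i1 * j1, i2, j2, a, b]
  ef : Fus [r, a, b] [σ, a, b]
  cl : ∀ y ∈ gen [r, i1, j1, i2, j2, σ], IsConj r y →
    y ∈ [r, σ, i1⁻¹ * σ * i1, j1⁻¹ * σ * j1, (i1 * j1)⁻¹ * σ * (i1 * j1)]
  sol : Group.IsSolvable ↥(C1 r)

/-- the perfect normal subgroup with Sylow 2-subgroup `R` -/
structure PP (P : Subgroup G) (r i1 j1 i2 j2 σ a b : G) : Prop where
  nrm : P.Normal
  perf : ⁅P, P⁆ = P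
  le : gen [r, i1, j1, i2, j2, σ] ≤ P
  cA : P ≤ Cs (gen [a, b])
  inf : P ⊓ (gen [r, i1, j1, i2, j2, σ] ⊔ gen [a, b]) = gen [r, i1, j1, i2, j2, σ]

/-- final structure of the quotient -/
structure BO (P : Subgroup G) (r i1 j1 i2 j2 σ : G) : Prop where
  nrm : P.Normal
  iso : Nonempty (P ≃* Cfsg.PSp 2 (ZMod 3))
  le : gen [r, i1, j1, i2, j2, σ] ≤ P
  dec : ∀ h : G, ∃ c ∈ Cs P, ∃ e ∈ P, h = c * e
  idx : Nat.card (Cs P) ≤ 12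

/-- final structure of `H` -/
structure HO (E : Subgroup G) (r1 r3 : G) : Prop where
  iso : Nonempty (E ≃* Matrix.symplecticGroup (Fin 2) (ZMod 3))
  r1E : r1 ∈ E
  r3E : r3 ∈ E
  dec : ∀ h : G, ∃ c ∈ Cs E, ∃ e ∈ E, h = c * e
  OC : Cfsg.oddCore G ≤ Cs E
  idx : Nat.card (Cs E) ≤ 24 * Nat.card (Cfsg.oddCore G)

end Cfsg.Lib.L33A
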