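import Cfsg.Agent.L33A.G1
import Cfsg.Agent.Gold.Cm

/-! The centraliser of a 2-central involution in a group of `PSp₆(3)` type: quotients by `⟨z⟩ O(G)`. -/

set_option autoImplicit false
set_option linter.unusedSectionVars false
set_option linter.unusedVariables false

namespace Cfsg.Lib.L33A

open Subgroup Cfsg.Lib.Gold

universe u
variable {G : Type u} [Group G] [Finite G]

theorem G2.zp {z y : G} (z2 : z * z = 1) (h : y ∈ zpowers z) : y = 1 ∨ y = z := by
  obtain ⟨k, rfl⟩ := mem_zpowers_iff.1 h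
  have e : z ^ (2 : ℤ) = 1 := by rw [zpow_two, z2]
  rcases Int.even_or_odd' k with ⟨m, rfl | rfl⟩
  · left; rw [zpow_mul, e, one_zpow]
  · right; rw [zpow_add, zpow_mul, e, one_zpow, one_mul, zpow_one]

theorem G2.dec {z x : G} (z2 : z * z = 1) (h : x ∈ zpowers z ⊔ Cfsg.oddCore G) :
    x ∈ Cfsg.oddCore G ∨ z * x ∈ Cfsg.oddCore G := by
  haveI := G1.nrm (G := G)
  have : x ∈ ((zpowers z ⊔ Cfsg.oddCore G : Subgroup G) : Set G) := h
  rw [mul_normal] at this
  obtain ⟨a, ha, o, ho, rfl⟩ := this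
  rcases G2.zp z2 ha with rfl | rfl
  · left; simpa using ho
  · right; simpa [← mul_assoc, z2] using ho

theorem G2.one {O : Subgroup G} (hO : Odd (Nat.card O)) {x : G} (hx : ∃ k, x ^ 2 ^ k = 1)
    (h : x ∈ O) : x = 1 := by
  obtain ⟨k, hk⟩ := hx
  have h1 : orderOf x ∣ 2 ^ k := orderOf_dvd_of_pow_eq_one hk
  have h2 : orderOf x ∣ Nat.card O := O.orderOf_dvd_natCard h
  have c : (2 ^ k).Coprime (Nat.card O) := Nat.Coprime.pow_left _ (Nat.coprime_two_left.2 hO)
  exact orderOf_eq_one_iff.1 (Nat.eq_one_of_dvd_coprimes c h1 h2)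

theorem G2.two {z x : G} (hz : z ∈ center G) (z2 : z * z = 1) (hx : ∃ k, x ^ 2 ^ k = 1)
    (h : x ∈ zpowers z ⊔ Cfsg.oddCore G) : x = 1 ∨ x = z := by
  rcases G2.dec z2 h with h | h
  · exact .inl (G2.one G1.odd hx h)
  · right
    obtain ⟨k, hk⟩ := hx
    have c : Commute z x := (mem_center_iff.1 hz x).symm
    have e : z * x = 1 := G2.one G1.odd ⟨k + 1, by
      rw [c.mul_pow, pow_succ' 2 k, pow_mul z, pow_two, z2, one_pow, one_mul, mul_comm, pow_mul, hk,
        one_pow]⟩ h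
    rw [← one_mul x, ← z2, mul_assoc, e, mul_one]

theorem G2.solY (r : G) (hs : Group.IsSolvable ↥(C1 r)) : ∃ Y : Subgroup G, Group.IsSolvable Y ∧
    ∀ g, g * r * g⁻¹ * r⁻¹ ∈ center G → g ∈ Y := by
  have key : ∀ a b : G, b * r * b⁻¹ * r⁻¹ ∈ center G → a * b * r * (a * b)⁻¹ * r⁻¹ =
      (a * r * a⁻¹ * r⁻¹) * (b * r * b⁻¹ * r⁻¹) := by
    intro a b hb
    have := mem_center_iff.1 hb
    calc _ = a * ((b * r * b⁻¹ * r⁻¹) * (r * a⁻¹ * r⁻¹)) := by group
      _ = a * ((r * a⁻¹ * r⁻¹) * (b * r * b⁻¹ * r⁻¹)) := by rw [this]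
      _ = _ := by group
  let Y : Subgroup G :=
    { carrier := {g | g * r * g⁻¹ * r⁻¹ ∈ center G}
      one_mem' := by simp
      mul_mem' := fun {a b} ha hb => by
        show _ ∈ center G
        rw [key a b hb]; exact mul_mem ha hb
      inv_mem' := fun {a} ha => by
        show _ ∈ center G
        have := (inferInstance : (center G).Normal).conj_mem' _ (inv_mem ha) a
        convert this using 1
        group }
  refine ⟨Y, ?_, fun g hg => hg⟩
  let φ : Y →* center G := MonoidHom.mk' (fun g => ⟨g * r * (g : G)⁻¹ * r⁻¹, g.2⟩) fun a b =>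
    Subtype.ext (key a b b.2)
  haveI : Group.IsSolvable ↥(Y ⊓ C1 r) :=
    Group.isSolvable_of_isSolvable_injective (inclusion_injective (inf_le_right (a := Y) (b := C1 r)))
  haveI : Group.IsSolvable (center G) := Group.isSolvable_of_comm fun a b =>
    Subtype.ext (mem_center_iff.1 b.2 a)
  refine Group.isSolvable_of_ker_le_range (inclusion (inf_le_left (a := Y) (b := C1 r))) φ ?_
  intro g hg
  have e : (g : G) * r * (g : G)⁻¹ * r⁻¹ = 1 := congrArg Subtype.val (MonoidHom.mem_ker.1 hg)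
  refine ⟨⟨g, g.2, mem_centralizer_singleton_iff.2 ?_⟩, rfl⟩
  calc (g : G) * r = (g * r * (g : G)⁻¹ * r⁻¹) * (r * g) := by group
    _ = _ := by rw [e, one_mul]

theorem G2.quot {B : Type u} [Group B] (π : G →* B) (hπ : Function.Surjective π) {z r : G}
    (hz : z ∈ center G) (z2 : z * z = 1) (hk : π.ker = zpowers z ⊔ Cfsg.oddCore G) (r2 : r * r = 1)
    (hs : Group.IsSolvable ↥(C1 r)) : Group.IsSolvable ↥(C1 (π r)) := by
  haveI := G1.nrm (G := G)
  obtain ⟨Y, sY, hY⟩ := G2.solY r hs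
  haveI : Group.IsSolvable (Y.map π) := Group.isSolvable_of_surjective (π.subgroupMap_surjective Y)
  suffices h : C1 (π r) ≤ Y.map π from
    Group.isSolvable_of_isSolvable_injective (inclusion_injective h)
  intro b hb
  obtain ⟨c, rfl⟩ := hπ b
  have hb' := mem_centralizer_singleton_iff.1 hb
  have m : r⁻¹ * (c⁻¹ * r * c) ∈ π.ker := by
    rw [MonoidHom.mem_ker]
    simp only [map_mul, map_inv]
    rw [mul_assoc (π c)⁻¹, ← hb']; group
  have ex : ∃ w ∈ center G, w * w = 1 ∧ (r * w)⁻¹ * (c⁻¹ * r * c) ∈ Cfsg.oddCore G := by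
    rcases G2.dec z2 (hk ▸ m) with h | h
    · exact ⟨1, one_mem _, one_mul _, by simpa using h⟩
    · refine ⟨z, hz, z2, ?_⟩
      rwa [mul_inv_rev, inv_eq_of_mul_eq_one_right z2, mul_assoc]
  obtain ⟨w, hw, w2, ho⟩ := ex
  have cw : Commute r w := mem_center_iff.1 hw r
  obtain ⟨o, oO, e⟩ := G1.conj_odd G1.odd (x := r * w) (y := c⁻¹ * r * c)
    ⟨1, by rw [pow_one, cw.mul_pow, pow_two, pow_two, r2, w2, one_mul]⟩
    ⟨1, by
      rw [pow_one, pow_two]
      calc _ = c⁻¹ * (r * r) * c := by group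
        _ = 1 := by rw [r2]; group⟩ ho
  have g : o * c⁻¹ ∈ Y := hY _ (by
    have : o * c⁻¹ * r * (o * c⁻¹)⁻¹ * r⁻¹ = w := by
      calc _ = o * (c⁻¹ * r * c) * o⁻¹ * r⁻¹ := by group
        _ = r * w * r⁻¹ := by rw [← e]; group
        _ = w := by rw [cw.eq]; group
    rwa [this])
  refine ⟨(o * c⁻¹)⁻¹, inv_mem g, ?_⟩
  have : π o = 1 := by
    rw [← MonoidHom.mem_ker, hk]; exact mem_sup_right oO
  simp [this]

theorem G2.odd {B : Type u} [Group B] (π : G →* B) (hπ : Function.Surjective π) {z : G}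
    (hz : z ∈ center G) (z2 : z * z = 1) (hk : π.ker = zpowers z ⊔ Cfsg.oddCore G) :
    Cfsg.oddCore B = ⊥ := by
  haveI : Finite B := Finite.of_surjective π hπ
  haveI : (Cfsg.oddCore B).Normal := G1.nrm
  haveI : Fact (Nat.Prime 2) := ⟨Nat.prime_two⟩
  obtain ⟨N, hN⟩ : ∃ N, N = (Cfsg.oddCore B).comap π := ⟨_, rfl⟩
  haveI nN : N.Normal := hN ▸ inferInstance
  obtain ⟨P⟩ : Nonempty (Sylow 2 N) := inferInstance
  have hP1 : ∀ x ∈ (P : Subgroup N), (x : G) = 1 ∨ (x : G) = z := by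
    intro x hx
    obtain ⟨k, hk'⟩ := P.isPGroup' ⟨x, hx⟩
    have e : (x : G) ^ 2 ^ k = 1 := by
      simpa using congrArg (fun y : (P : Subgroup N) => ((y : N) : G)) hk'
    refine G2.two hz z2 ⟨k, e⟩ ?_
    rw [← hk, MonoidHom.mem_ker]
    refine G2.one G1.odd ⟨k, by rw [← map_pow, e, map_one]⟩ ?_
    exact hN.le x.2
  have hP : normalizer P ≤ centralizer (P : Set N) := fun g _ =>
    mem_centralizer_iff.2 fun x hx => Subtype.ext (by
      rcases hP1 x hx with e | e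
      · simp [e]
      · simp only [coe_mul, e]; exact (mem_center_iff.1 hz _).symm)
  have c := MonoidHom.ker_transferSylow_isComplement' P hP
  have o := MonoidHom.not_dvd_card_ker_transferSylow P hP
  have k1 : (MonoidHom.transferSylow P hP).ker ≤ Cfsg.pPrimeCore 2 N :=
    le_sSup ⟨inferInstance, ((Nat.Prime.coprime_iff_not_dvd Nat.prime_two).2 o).symm⟩
  have k2 : Oc N ≤ Cfsg.oddCore G := by
    refine le_sSup ⟨?_, odd_iff_coprime.1 odd_card_Oc⟩
    rw [← normalizer_eq_top_iff, eq_top_iff]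
    exact le_Ns_Oc (normalizer_eq_top_iff.2 nN).ge
  rw [eq_bot_iff]
  intro b hb
  obtain ⟨x, rfl⟩ := hπ b
  have hx : x ∈ N := by rw [hN]; exact hb
  obtain ⟨⟨k, p⟩, e, -⟩ := c.existsUnique ⟨x, hx⟩
  have e' : x = ((k : N) : G) * ((p : N) : G) := (congrArg Subtype.val e).symm
  rw [mem_bot, ← MonoidHom.mem_ker, hk, e']
  refine mul_mem (mem_sup_right (k2 ⟨k, k1 k.2, rfl⟩)) (mem_sup_left ?_)
  rcases hP1 p p.2 with e | e <;> rw [e]
  exacts [one_mem _, mem_zpowers _]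

end Cfsg.Lib.L33A
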