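import Cfsg.Agent.L33A.Kit
import Cfsg.Agent.L33A.G2

/-! # The image of the Sylow 2-subgroup in the quotient -/

set_option autoImplicit false

namespace Cfsg.Lib.L33A

open Subgroup Cfsg.Lib.L33E Cfsg.Lib.Gold

universe u
variable {G : Type u} [Group G] [Finite G]

section HC
variable {r1 r3 i1 j1 i2 j2 i3 j3 σ : G} {B : Type u} [Group B] {π : G →* B}

theorem BA1.p3 (hk : π.ker = zpowers r3 ⊔ Cfsg.oddCore G) : π r3 = 1 :=
  MonoidHom.mem_ker.1 (hk ▸ mem_sup_left (mem_zpowers r3))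

theorem BA1.ker (h : HC r1 r3 i1 j1 i2 j2 i3 j3 σ) (hk : π.ker = zpowers r3 ⊔ Cfsg.oddCore G)
    {y : G} (hy : y ∈ gen [r1, r3, i1, j1, i2, j2, i3, j3, σ]) : π y = 1 ↔ y = 1 ∨ y = r3 := by
  refine ⟨fun e => G2.two h.cen (by simpa [evL] using mulT h.sat 2 2 0)
    (((chT h.sat).isP ⟨y, hy⟩).imp fun k hk => congrArg Subtype.val hk)
    (hk ▸ MonoidHom.mem_ker.2 e), ?_⟩
  rintro (e | e)
  · rw [e, map_one]
  · rw [e, BA1.p3 hk]

/-- equality of images on codes -/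
theorem BA1.eqc (h : HC r1 r3 i1 j1 i2 j2 i3 j3 σ) (hk : π.ker = zpowers r3 ⊔ Cfsg.oddCore G)
    {x y : ℕ} (hx : x < 512) (hy : y < 512) (e : π (evL [r1, r3, i1, j1, i2, j2, i3, j3, σ] x) =
      π (evL [r1, r3, i1, j1, i2, j2, i3, j3, σ] y)) :
    (Nat.beq (MT.mul (MT.inv x) y) 0 || Nat.beq (MT.mul (MT.inv x) y) 2) = true := by
  have C := chT h.sat
  have l := C.lt _ _ (C.ilt _ hx) hy
  have := (BA1.ker h hk (evL_mem _ (MT.mul (MT.inv x) y))).1 (by
    rw [C.mul _ _ (C.ilt _ hx) hy, C.inv _ hx, map_mul, map_inv, e, inv_mul_cancel])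
  rw [Bool.or_eq_true, C.beq_iff l (by decide), C.beq_iff l (by decide)]
  simpa [evL] using this

theorem BA1.cj (h : HC r1 r3 i1 j1 i2 j2 i3 j3 σ) (π : G →* B) (g x z : ℕ)
    (e : (Nat.blt g 512 && Nat.blt x 512 && Nat.blt z 512 &&
      Nat.beq (MT.mul g x) (MT.mul z g)) = true := by decide +kernel) :
    π (evL [r1, r3, i1, j1, i2, j2, i3, j3, σ] g) * π (evL [r1, r3, i1, j1, i2, j2, i3, j3, σ] x) *
      (π (evL [r1, r3, i1, j1, i2, j2, i3, j3, σ] g))⁻¹ =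
      π (evL [r1, r3, i1, j1, i2, j2, i3, j3, σ] z) := by
  have C := chT h.sat
  simp only [Bool.and_eq_true, Nat.blt_eq, Nat.beq_eq] at e
  rw [mul_inv_eq_iff_eq_mul, ← map_mul, ← map_mul, ← C.mul _ _ e.1.1.1 e.1.1.2, e.2,
    C.mul _ _ e.1.2 e.1.1.1]

theorem BA1.rl (h : HC r1 r3 i1 j1 i2 j2 i3 j3 σ) (hk : π.ker = zpowers r3 ⊔ Cfsg.oddCore G) :
    Rl DR [π r1, π i1, π j1, π i2, π j2, π σ] := by
  have p := BA1.p3 hk
  refine (((((Rl.nil.snoc (β := []) (sq := 0) (g := π r1) .nil ?_).snoc (β := [1]) (sq := 1)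
    (g := π i1) (.cons ?_ .nil) ?_).snoc (β := [1, 3]) (sq := 1) (g := π j1)
    (.cons ?_ (.cons ?_ .nil)) ?_).snoc (β := [1, 2, 4]) (sq := 1) (g := π i2)
    (.cons ?_ (.cons ?_ (.cons ?_ .nil))) ?_).snoc (β := [1, 2, 4, 9]) (sq := 1) (g := π j2)
    (.cons ?_ (.cons ?_ (.cons ?_ (.cons ?_ .nil)))) ?_).snoc (β := [1, 8, 16, 2, 4]) (sq := 0)
    (g := π σ) (.cons ?_ (.cons ?_ (.cons ?_ (.cons ?_ (.cons ?_ .nil))))) ?_
  · simpa [evL, p] using congrArg π (mulT h.sat 1 1 0)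
  · simpa [evL, p] using BA1.cj h π 4 1 1
  · simpa [evL, p] using congrArg π (mulT h.sat 4 4 1)
  · simpa [evL, p] using BA1.cj h π 8 1 1
  · simpa [evL, p] using BA1.cj h π 8 4 5
  · simpa [evL, p] using congrArg π (mulT h.sat 8 8 1)
  · simpa [evL, p] using BA1.cj h π 16 1 1
  · simpa [evL, p] using BA1.cj h π 16 4 4
  · simpa [evL, p] using BA1.cj h π 16 8 8
  · simpa [evL, p] using congrArg π (mulT h.sat 16 16 3)
  · simpa [evL, p] using BA1.cj h π 32 1 1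
  · simpa [evL, p] using BA1.cj h π 32 4 4
  · simpa [evL, p] using BA1.cj h π 32 8 8
  · simpa [evL, p] using BA1.cj h π 32 16 19
  · simpa [evL, p] using congrArg π (mulT h.sat 32 32 3)
  · simpa [evL, p] using BA1.cj h π 256 1 3
  · simpa [evL, p] using BA1.cj h π 256 4 16
  · simpa [evL, p] using BA1.cj h π 256 8 32
  · simpa [evL, p] using BA1.cj h π 256 16 4
  · simpa [evL, p] using BA1.cj h π 256 32 8
  · simpa [evL, p] using congrArg π (mulT h.sat 256 256 0)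

theorem BA1.ev (h : HC r1 r3 i1 j1 i2 j2 i3 j3 σ) (π : G →* B) (m : ℕ) :
    MT.ev [1, 4, 8, 16, 32, 256] m < 512 ∧ evL [π r1, π i1, π j1, π i2, π j2, π σ] m =
      π (evL [r1, r3, i1, j1, i2, j2, i3, j3, σ] (MT.ev [1, 4, 8, 16, 32, 256] m)) := by
  have := (chT h.sat).ev_aux (xs := [1, 4, 8, 16, 32, 256]) (by decide) m
  refine ⟨this.1, ?_⟩
  rw [this.2, Id.map_evL]
  congr 1
  simp [evL]

theorem BA1.ev' (h : HC r1 r3 i1 j1 i2 j2 i3 j3 σ) (π : G →* B) (m : ℕ) :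
    MT.ev [64, 128] m < 512 ∧ evL [π i3, π j3] m =
      π (evL [r1, r3, i1, j1, i2, j2, i3, j3, σ] (MT.ev [64, 128] m)) := by
  have := (chT h.sat).ev_aux (xs := [64, 128]) (by decide) m
  refine ⟨this.1, ?_⟩
  rw [this.2, Id.map_evL]
  congr 1
  simp [evL]

theorem BA1.sat (h : HC r1 r3 i1 j1 i2 j2 i3 j3 σ) (hk : π.ker = zpowers r3 ⊔ Cfsg.oddCore G) :
    Sat DR [π r1, π i1, π j1, π i2, π j2, π σ] := by
  have r := BA1.rl h hk
  have := Finite.of_surjective _ r.surj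
  refine r.sat ?_
  rw [← Nat.card_fin (2 ^ _)]
  refine Nat.card_le_card_of_injective (fun m => ⟨evL _ m, evL_mem _ _⟩) fun a b e => Fin.ext ?_
  have k := BA1.eqc h hk (BA1.ev h π a).1 (BA1.ev h π b).1
    ((BA1.ev h π a).2.symm.trans ((congrArg Subtype.val e :).trans (BA1.ev h π b).2))
  have t : allN (fun a => allN (fun b => Nat.beq a b ||
      !(Nat.beq (MT.mul (MT.inv (MT.ev [1, 4, 8, 16, 32, 256] a)) (MT.ev [1, 4, 8, 16, 32, 256] b)) 0 ||
      Nat.beq (MT.mul (MT.inv (MT.ev [1, 4, 8, 16, 32, 256] a)) (MT.ev [1, 4, 8, 16, 32, 256] b)) 2))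
      64) 64 = true := by decide +kernel
  have := allN_iff.1 (allN_iff.1 t a a.2) b b.2
  rw [k] at this
  simpa using this

theorem BA1.rl' (h : HC r1 r3 i1 j1 i2 j2 i3 j3 σ) (hk : π.ker = zpowers r3 ⊔ Cfsg.oddCore G) :
    Rl [([], 0), ([1], 0)] [π i3, π j3] := by
  have p := BA1.p3 hk
  refine (Rl.nil.snoc (β := []) (sq := 0) (g := π i3) .nil ?_).snoc (β := [1]) (sq := 0)
    (g := π j3) (.cons ?_ .nil) ?_
  · simpa [evL, p] using congrArg π (mulT h.sat 64 64 2)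
  · simpa [evL, p] using BA1.cj h π 128 64 66
  · simpa [evL, p] using congrArg π (mulT h.sat 128 128 2)

theorem BA1.map (h : HC r1 r3 i1 j1 i2 j2 i3 j3 σ) (hk : π.ker = zpowers r3 ⊔ Cfsg.oddCore G) :
    (gen [r1, r3, i1, j1, i2, j2, σ]).map π = gen [π r1, π i1, π j1, π i2, π j2, π σ] ∧
    (gen [r1, r3, i1, j1, i2, j2, i3, j3, σ]).map π =
      gen [π r1, π i1, π j1, π i2, π j2, π σ] ⊔ gen [π i3, π j3] ∧
    gen [π r1, π i1, π j1, π i2, π j2, π σ] ⊓ gen [π i3, π j3] = ⊥ := by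
  have p := BA1.p3 hk
  refine ⟨?_, ?_, eq_bot_iff.2 fun y ⟨h1, h2⟩ => ?_⟩
  · rw [Id.map_gen]
    refine le_antisymm ((closure_le _).2 fun x hx => ?_) (closure_mono fun x hx => ?_)
    · simp only [List.map, p, Set.mem_ofPred_eq, List.mem_cons, List.not_mem_nil, or_false] at hx
      rcases hx with e | e | e | e | e | e | e <;> rw [e] <;>
        first | exact one_mem _ | exact subset_closure (by simp)
    · simp only [List.map, Set.mem_ofPred_eq, List.mem_cons, List.not_mem_nil, or_false] at hx ⊢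
      tauto
  · rw [Id.map_gen]
    refine le_antisymm ((closure_le _).2 fun x hx => ?_)
      (sup_le (closure_mono fun x hx => ?_) (closure_mono fun x hx => ?_))
    · simp only [List.map, p, Set.mem_ofPred_eq, List.mem_cons, List.not_mem_nil, or_false] at hx
      rcases hx with e | e | e | e | e | e | e | e | e <;> rw [e] <;>
        first
        | exact one_mem _
        | (refine mem_sup_left (subset_closure ?_); simp; done)
        | exact mem_sup_right (subset_closure (by simp))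
    · simp only [List.map, Set.mem_ofPred_eq, List.mem_cons, List.not_mem_nil, or_false] at hx ⊢
      tauto
    · simp only [List.map, Set.mem_ofPred_eq, List.mem_cons, List.not_mem_nil, or_false] at hx ⊢
      tauto
  · obtain ⟨a, ha, e1⟩ := (BA1.rl h hk).mem_iff.1 h1
    obtain ⟨b, hb, e2⟩ := (BA1.rl' h hk).mem_iff.1 h2
    have k := BA1.eqc h hk (BA1.ev h π a).1 (BA1.ev' h π b).1
      ((BA1.ev h π a).2.symm.trans (e1.trans (e2.symm.trans (BA1.ev' h π b).2)))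
    have t : allN (fun a => allN (fun b => Nat.beq a 0 ||
        !(Nat.beq (MT.mul (MT.inv (MT.ev [1, 4, 8, 16, 32, 256] a)) (MT.ev [64, 128] b)) 0 ||
        Nat.beq (MT.mul (MT.inv (MT.ev [1, 4, 8, 16, 32, 256] a)) (MT.ev [64, 128] b)) 2))
        4) 64 = true := by decide +kernel
    have := allN_iff.1 (allN_iff.1 t a ha) b hb
    rw [k] at this
    obtain rfl : a = 0 := by simpa using this
    rw [← e1, evL_zero]
    exact one_mem _

end HC

end Cfsg.Lib.L33A
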