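import Cfsg.Agent.Gold.Cm
import Cfsg.Agent.Trans.SylowIn
import Cfsg.Agent.S0205
import Cfsg.Prelude.Def_CaseTheorems

/-!
# Groups of `PSp₆(3)` type: generic lemmas on normal subgroups of odd order
-/

set_option autoImplicit false

namespace Cfsg.Lib.L33A

open Subgroup Cfsg.Lib.Gold Cfsg.Lib.Trans

universe u
variable {G : Type u} [Group G] [Finite G]

omit [Finite G] in
theorem G1.nrm0 : (Cfsg.oddCore G).Normal := inferInstance

theorem G1.nrm : (Cfsg.oddCore G).Normal := G1.nrm0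

theorem G1.odd : Odd (Nat.card (Cfsg.oddCore G)) :=
  Nat.coprime_two_right.1 (Solv.coprime_card_pPrimeCore 2 G)

theorem G1.conj_odd {O : Subgroup G} [O.Normal] (hO : Odd (Nat.card O)) {x y : G}
    (hx : ∃ k, x ^ 2 ^ k = 1) (hy : ∃ k, y ^ 2 ^ k = 1) (h : x⁻¹ * y ∈ O) :
    ∃ o ∈ O, o⁻¹ * x * o = y := by
  have two : ∀ {a : G}, (∃ k, a ^ 2 ^ k = 1) → IsPGroup 2 (zpowers a) := by
    rintro a ⟨k, hk⟩ ⟨_, i, rfl⟩
    refine ⟨k, Subtype.ext ?_⟩
    change (a ^ i) ^ 2 ^ k = 1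
    rw [← zpow_natCast, ← zpow_mul, mul_comm, zpow_mul, zpow_natCast, hk, one_zpow]
  obtain ⟨T, hT, xT⟩ := exists_isSylowIn_ge (two hx) (le_sup_left : zpowers x ≤ zpowers x ⊔ O)
  obtain ⟨u, hu, e⟩ := hT.exists_cj_le (two hy) (zpowers_le.2 (by
    simpa using mul_mem (mem_sup_left (mem_zpowers x) : x ∈ zpowers x ⊔ O) (mem_sup_right h)))
  obtain ⟨a, ha, o, ho, rfl⟩ := mem_sup_of_normal_right.1 hu
  have h1 : x⁻¹ * (o * y * o⁻¹) ∈ T := by
    have := mul_mem (mul_mem (inv_mem (xT ha)) (e (conj_mem_cj.2 (mem_zpowers y)))) (xT ha)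
    exact mul_mem (inv_mem (xT (mem_zpowers x))) (by simpa [mul_assoc] using this)
  have h2 : x⁻¹ * (o * y * o⁻¹) ∈ O := by
    have := mul_mem (mul_mem (Normal.conj_mem inferInstance o ho x⁻¹) h) (inv_mem ho)
    simpa [mul_assoc] using this
  obtain ⟨k, hk⟩ := hT.isPGroup ⟨_, h1⟩
  have h3 := ((Nat.coprime_two_right.2 (hO.of_dvd_nat (orderOf_dvd_natCard _ h2))).pow_right
    k).eq_one_of_dvd (orderOf_dvd_of_pow_eq_one (congrArg Subtype.val hk))
  refine ⟨o, ho, ?_⟩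
  rw [inv_mul_eq_one.1 (orderOf_eq_one_iff.1 h3)]
  group

theorem G1.sol {A B : Type*} [Group A] [Group B] (f : A →* B) (h1 : Group.IsSolvable f.range)
    (h2 : Group.IsSolvable f.ker) : Group.IsSolvable A :=
  Group.isSolvable_of_ker_le_range f.ker.subtype f.rangeRestrict (by simp)

theorem G1.swap {Γ O K : Subgroup G} (hO : Odd (Nat.card O)) (hle : O ≤ Γ) (n : Γ ≤ Ns O)
    (hK : K ≤ Γ) {s : G} (sΓ : s ∈ Γ) (s2 : s * s = 1) (hs : Group.IsSolvable ↥(Γ ⊓ C1 s))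
    (h : ∀ a ∈ K, ∀ b ∈ K, a * (s * b * s⁻¹) * a⁻¹ * (s * b * s⁻¹)⁻¹ ∈ O) :
    Group.IsSolvable K := by
  haveI : (O.subgroupOf Γ).Normal := (normal_subgroupOf_iff_le_normalizer hle).2 n
  have hO' : Odd (Nat.card (O.subgroupOf Γ)) := by
    rwa [Nat.card_congr (subgroupOfEquivOfLe hle).toEquiv]
  let π := QuotientGroup.mk' (O.subgroupOf Γ)
  have kπ : ∀ g, π g = 1 ↔ g.1 ∈ O := fun g => QuotientGroup.eq_one_iff g
  let ι : K →* _ := π.comp (inclusion hK)
  let ψ : ↥(Γ ⊓ C1 s) →* _ := π.comp (inclusion inf_le_left)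
  obtain ⟨s', hs'⟩ : ∃ s' : Γ, s'.1 = s := ⟨⟨s, sΓ⟩, rfl⟩
  have s2' : s' * s' = 1 := Subtype.ext (by simpa [hs'] using s2)
  have c2 : π s' * π s' = 1 := by rw [← map_mul, s2', map_one]
  have com : ∀ a b : K, Commute (ι a) (π s' * ι b * (π s')⁻¹) := fun a b => by
    rw [← commutatorElement_eq_one_iff_commute]
    have := (kπ (inclusion hK a * (s' * inclusion hK b * s'⁻¹) * (inclusion hK a)⁻¹ *
      (s' * inclusion hK b * s'⁻¹)⁻¹)).2 (by simpa [hs'] using h a a.2 b b.2)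
    simp only [map_mul, map_inv] at this
    exact this
  have cen : ∀ q, Commute q (π s') → q ∈ ψ.range := fun q hq => by
    obtain ⟨c, rfl⟩ := QuotientGroup.mk'_surjective (O.subgroupOf Γ) q
    obtain ⟨o, ho, e⟩ := G1.conj_odd hO' (x := s') (y := c⁻¹ * s' * c) ⟨1, by simpa [sq] using s2'⟩
      ⟨1, by simp [sq, mul_assoc, ← mul_assoc s' s', s2']⟩ (mem_subgroupOf.2 ((kπ _).1 (by
        change Commute (π c) _ at hq
        rw [map_mul, map_mul, map_mul, mul_assoc _ _ (π c), ← hq.eq, map_inv, map_inv]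
        group)))
    have e2 : c * o⁻¹ * s' = s' * (c * o⁻¹) := by
      calc _ = c * (o⁻¹ * s' * o) * o⁻¹ := by group
        _ = _ := by rw [e]; group
    refine ⟨⟨(c * o⁻¹ : Γ), (c * o⁻¹).2, mem_C1.2 (hs' ▸ congrArg Subtype.val e2)⟩, ?_⟩
    change π (c * o⁻¹) = π c
    rw [map_mul, map_inv, (kπ o).2 ho, inv_one, mul_one]
  let φ : K →* _ := MonoidHom.mk' (fun k => ι k * (π s' * ι k * (π s')⁻¹)) fun a b => by
    rw [map_mul, ← conj_mul, (com b a).symm.mul_mul_mul_comm]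
  have hφ : ∀ k, φ k = ι k * (π s' * ι k * (π s')⁻¹) := fun _ => rfl
  haveI := Group.isSolvable_of_surjective (f := ψ.rangeRestrict) ψ.rangeRestrict_surjective
  refine G1.sol φ (Group.isSolvable_of_isSolvable_injective (inclusion_injective
    (show φ.range ≤ ψ.range from ?_))) (G1.sol (ι.comp φ.ker.subtype) ?_ ?_)
  · rintro _ ⟨k, rfl⟩
    refine cen _ ?_
    rw [hφ, Commute, SemiconjBy, mul_assoc, inv_mul_cancel_right, (com k k).eq,
      inv_eq_of_mul_eq_one_right c2, mul_assoc (π s'), mul_assoc (π s'), ← mul_assoc (π s'), c2,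
      one_mul, mul_assoc]
  · refine Group.isSolvable_of_comm ?_
    rintro ⟨_, a, rfl⟩ ⟨_, b, rfl⟩
    have e : ι b * _ = 1 := (hφ b).symm.trans b.2
    have := (com a b).inv_right
    rw [← eq_inv_of_mul_eq_one_left e] at this
    exact Subtype.ext this.eq
  · haveI := Cfsg.Agent.S0205.result hO
    refine Group.isSolvable_of_isSolvable_injective (f := ((K.subtype.comp φ.ker.subtype).comp
      (ι.comp φ.ker.subtype).ker.subtype).codRestrict O fun k => (kπ _).1 k.2) fun a b e => ?_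
    have := congrArg Subtype.val e
    exact Subtype.ext (Subtype.ext (Subtype.ext this))

end Cfsg.Lib.L33A
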