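import Cfsg.Agent.L33A.Kit
import Cfsg.Agent.L33A.G1
import Cfsg.Agent.L33A.BA1
import Cfsg.Agent.L33E.Der

/-! # Fusion in the quotient by `⟨r₃⟩ O(H)` -/

set_option autoImplicit false
set_option linter.unusedSectionVars false

namespace Cfsg.Lib.L33A

open Subgroup Cfsg.Lib.L33E Cfsg.Lib.Gold

universe u
variable {G : Type u} [Group G] [Finite G] {r1 r3 i1 j1 i2 j2 i3 j3 σ : G} {B : Type u} [Group B]
  {π : G →* B}

theorem BA2.two (h : HC r1 r3 i1 j1 i2 j2 i3 j3 σ) {y : G}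
    (hy : y ∈ gen [r1, r3, i1, j1, i2, j2, i3, j3, σ]) : ∃ k, y ^ 2 ^ k = 1 :=
  ((chT h.sat).isP ⟨y, hy⟩).imp fun _ e => congrArg Subtype.val e

theorem BA2.lift (h : HC r1 r3 i1 j1 i2 j2 i3 j3 σ) (hk : π.ker = zpowers r3 ⊔ Cfsg.oddCore G)
    {q y g : G} (hq : q ∈ gen [r1, r3, i1, j1, i2, j2, i3, j3, σ])
    (hy : y ∈ gen [r1, r3, i1, j1, i2, j2, i3, j3, σ]) (e : π y = π (g * q * g⁻¹)) :
    IsConj q y ∨ IsConj (q * r3) y := by
  have := G1.nrm (G := G)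
  have key : ∀ q ∈ gen [r1, r3, i1, j1, i2, j2, i3, j3, σ], (g * q * g⁻¹)⁻¹ * y ∈ Cfsg.oddCore G →
      IsConj q y := fun q hq m => by
    obtain ⟨o, -, e⟩ := G1.conj_odd G1.odd ((BA2.two h hq).imp fun k e => by
      rw [conj_pow, e, mul_one, mul_inv_cancel]) (BA2.two h hy) m
    exact isConj_iff.2 ⟨o⁻¹ * g, by rw [← e]; group⟩
  have m : (g * q * g⁻¹)⁻¹ * y ∈ zpowers r3 ⊔ Cfsg.oddCore G := by
    rw [← hk, MonoidHom.mem_ker, map_mul, map_inv, e, inv_mul_cancel]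
  obtain ⟨z, hz, o, ho, e⟩ := (mem_sup_of_normal_right).1 m
  have r2 : r3 ^ 2 = 1 := by simpa [evL, sq] using mulT h.sat 2 2 0
  obtain ⟨n, rfl⟩ := (mem_powers_iff_mem_zpowers.2 hz)
  beta_reduce at e
  rw [pow_eq_pow_mod n r2] at e
  rcases Nat.mod_two_eq_zero_or_one n with k | k <;> rw [k] at e
  · exact .inl (key q hq (by rw [← e, pow_zero, one_mul]; exact ho))
  · refine .inr (key _ (mul_mem hq (subset_closure (by simp))) ?_)
    rw [← mul_assoc, mul_assoc _ r3, ← mem_center_iff.1 h.cen, ← mul_assoc, mul_inv_rev, mul_assoc,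
      ← e, pow_one, inv_mul_cancel_left]
    exact ho

theorem BA2.q3 (h : HC r1 r3 i1 j1 i2 j2 i3 j3 σ) {q : G} (hq : q ∈ gen [i3, j3]) :
    q = 1 ∨ q = r3 ∨ (q * q = r3 ∧ IsConj (i3 * j3) q) := by
  have C := chT h.sat
  obtain ⟨-, l, m, p, hm⟩ := C.sub (xs := [2, 64, 128]) (k := fun _ m => allN (fun x => !bit m x ||
    memN x [0, 2, 64, 66, 128, 130, 192, 194]) 512) (by decide +kernel)
  obtain ⟨x, hx, rfl⟩ := C.mem_iff.1 (closure_mono (fun a ha => by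
    simp only [List.mem_cons, Set.mem_ofPred_eq] at ha ⊢; tauto) hq)
  have p := allN_iff.1 p x hx
  rw [(hm x).2 ⟨hx, closure_mono (fun a ha => by
    simp only [List.mem_cons, Set.mem_ofPred_eq, List.map, evL] at ha ⊢; simp; tauto) hq⟩, Bool.not_true, Bool.false_or, memN_iff] at p
  obtain ⟨g, hg⟩ := h.rho3
  simp only [Cj, List.forall₂_cons] at hg
  obtain ⟨-, -, -, -, -, e1, e2, -⟩ := hg
  have c : ∀ {a b w : G}, w⁻¹ * a * w = b → IsConj a b := fun {a b w} e =>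
    isConj_iff.2 ⟨w⁻¹, by rwa [inv_inv]⟩
  have c128 : IsConj (i3 * j3) (evL [r1, r3, i1, j1, i2, j2, i3, j3, σ] 128) := by
    simpa [evL] using (c e2).symm
  have c64 : IsConj (i3 * j3) (evL [r1, r3, i1, j1, i2, j2, i3, j3, σ] 64) := by
    simpa [evL] using (c e2).symm.trans (c e1).symm
  have c192 : IsConj (i3 * j3) (evL [r1, r3, i1, j1, i2, j2, i3, j3, σ] 192) := by
    simpa [evL] using IsConj.refl (i3 * j3)
  have r : r3 = evL [r1, r3, i1, j1, i2, j2, i3, j3, σ] 2 := by simp [evL]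
  have cj : ∀ x w z : ℕ, (Nat.blt x 512 && Nat.blt w 512 && Nat.beq (MT.cj x w) z) = true →
      IsConj (evL [r1, r3, i1, j1, i2, j2, i3, j3, σ] x)
        (evL [r1, r3, i1, j1, i2, j2, i3, j3, σ] z) := fun x w z e => by
    simp only [Bool.and_eq_true, Nat.blt_eq, Nat.beq_eq] at e
    exact e.2 ▸ c (C.cj_eq e.1.1 e.1.2).symm
  simp only [List.mem_cons, List.not_mem_nil, or_false] at p
  rcases p with rfl | rfl | rfl | rfl | rfl | rfl | rfl | rfl
  exacts [.inl (by simp [evL]), .inr (.inl r.symm),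
    .inr (.inr ⟨(mulT h.sat 64 64 2).trans r.symm, c64⟩),
    .inr (.inr ⟨(mulT h.sat 66 66 2).trans r.symm, c64.trans (cj 64 128 66 (by decide +kernel))⟩),
    .inr (.inr ⟨(mulT h.sat 128 128 2).trans r.symm, c128⟩),
    .inr (.inr ⟨(mulT h.sat 130 130 2).trans r.symm, c128.trans (cj 128 64 130 (by decide +kernel))⟩),
    .inr (.inr ⟨(mulT h.sat 192 192 2).trans r.symm, c192⟩),
    .inr (.inr ⟨(mulT h.sat 194 194 2).trans r.symm, c192.trans (cj 192 64 194 (by decide +kernel))⟩)]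

theorem BA2.sc (h : HC r1 r3 i1 j1 i2 j2 i3 j3 σ) (hπ : Function.Surjective π)
    (hk : π.ker = zpowers r3 ⊔ Cfsg.oddCore G) : Cfsg.IsStronglyClosed (gen [π i3, π j3])
      (gen [π r1, π i1, π j1, π i2, π j2, π σ] ⊔ gen [π i3, π j3]) := by
  have hQ : (gen [i3, j3]).map π = gen [π i3, π j3] := Id.map_gen π _
  have le : gen [i3, j3] ≤ gen [r1, r3, i1, j1, i2, j2, i3, j3, σ] := closure_mono fun a ha => by
    simp only [List.mem_cons, Set.mem_ofPred_eq] at ha ⊢; tauto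
  have m3 : r3 ∈ gen [i3, j3] := by
    have e : i3 * i3 = r3 := by simpa [evL] using mulT h.sat 64 64 2
    exact e ▸ mul_mem (subset_closure (by simp)) (subset_closure (by simp))
  have p3 : π r3 = 1 := by rw [← MonoidHom.mem_ker, hk]; exact mem_sup_left (mem_zpowers _)
  refine ⟨le_sup_right, fun x hx g hg => ?_⟩
  rw [← (BA1.map h hk).2.1] at hg
  rw [← hQ] at hx ⊢
  obtain ⟨q, hq, rfl⟩ := hx
  obtain ⟨g, rfl⟩ := hπ g
  obtain ⟨y, hy, e⟩ := hg
  by_cases n : π q = 1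
  · rw [n, mul_one, mul_inv_cancel]; exact one_mem _
  have key : ∀ q ∈ gen [i3, j3], π q ≠ 1 → IsConj q y → y ∈ gen [i3, j3] := fun q hq n c => by
    rcases BA2.q3 h hq with rfl | rfl | ⟨h1, h2⟩
    · exact absurd π.map_one n
    · exact absurd p3 n
    · refine h.scl y hy ?_ (h2.trans c)
      obtain ⟨k, rfl⟩ := isConj_iff.1 c
      rw [conj_mul, h1, mem_center_iff.1 h.cen, mul_inv_cancel_right]
  refine ⟨y, ?_, e⟩
  rcases BA2.lift h hk (g := g) (le hq) hy (by rw [e, map_mul, map_mul, map_inv]) with c | c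
  · exact key q hq n c
  · exact key _ (mul_mem hq m3) (by rwa [map_mul, p3, mul_one]) c

theorem BA2.cl (h : HC r1 r3 i1 j1 i2 j2 i3 j3 σ) (hπ : Function.Surjective π)
    (hk : π.ker = zpowers r3 ⊔ Cfsg.oddCore G) :
    ∀ y ∈ gen [π r1, π i1, π j1, π i2, π j2, π σ], IsConj (π r1) y →
    y ∈ [π r1, π σ, (π i1)⁻¹ * π σ * π i1, (π j1)⁻¹ * π σ * π j1,
      (π i1 * π j1)⁻¹ * π σ * (π i1 * π j1)] := by
  intro y hy c
  have C := chT h.sat
  have p3 : π r3 = 1 := by rw [← MonoidHom.mem_ker, hk]; exact mem_sup_left (mem_zpowers _)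
  have m1 : r1 ∈ gen [r1, r3, i1, j1, i2, j2, i3, j3, σ] := subset_closure (by simp)
  rw [← (BA1.map h hk).1] at hy
  obtain ⟨w, hw, rfl⟩ := hy
  have hw' : w ∈ gen [r1, r3, i1, j1, i2, j2, i3, j3, σ] := closure_mono (fun a ha => by
    simp only [List.mem_cons, Set.mem_ofPred_eq] at ha ⊢; tauto) hw
  have n1 : π w ≠ 1 := fun e => by
    rw [e, isConj_one_left, BA1.ker h hk m1] at c
    exact c.elim (by simpa [evL] using neC h.sat 1 0) (by simpa [evL] using neC h.sat 1 2)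
  obtain ⟨g, e⟩ := isConj_iff.1 c
  obtain ⟨g, rfl⟩ := hπ g
  have w2 : w * w = 1 := by
    have key : ∀ a : G, a * a = 1 → IsConj a w → w * w = 1 := fun a a2 c => by
      obtain ⟨k, rfl⟩ := isConj_iff.1 c
      rw [conj_mul, a2, mul_one, mul_inv_cancel]
    exact (BA2.lift h hk (g := g) m1 hw' (by rw [← e, map_mul, map_mul, map_inv])).elim
      (key _ (by simpa [evL] using mulT h.sat 1 1 0)) (key _ (by simpa [evL] using mulT h.sat 3 3 0))
  obtain ⟨-, l, m, p, hm⟩ := C.sub (xs := [1, 2, 4, 8, 16, 32, 256]) (k := fun _ m => allN (fun x =>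
    !bit m x || !Nat.beq (MT.mul x x) 0 || memN x [0, 1, 256, 277, 297, 317] ||
      memN (MT.mul x 2) [0, 1, 256, 277, 297, 317]) 512) (by decide +kernel)
  obtain ⟨x, hx, rfl⟩ := C.mem_iff.1 hw'
  have p := allN_iff.1 p x hx
  have h2 : 2 < MT.N := by decide
  rw [(hm x).2 ⟨hx, by simpa [evL] using hw⟩, (C.beq_iff (C.lt _ _ hx hx) C.pos).2
    (by rw [C.mul _ _ hx hx, w2]; simp [evL])] at p
  simp only [Bool.not_true, Bool.false_or, Bool.or_eq_true, memN_iff] at p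
  obtain ⟨z, hz, e⟩ : ∃ z ∈ [0, 1, 256, 277, 297, 317],
      π (evL [r1, r3, i1, j1, i2, j2, i3, j3, σ] x) = π (evL [r1, r3, i1, j1, i2, j2, i3, j3, σ] z) :=
    p.elim (fun p => ⟨_, p, rfl⟩) fun p => ⟨_, p, by
      rw [C.mul _ _ hx h2, map_mul, show evL [r1, r3, i1, j1, i2, j2, i3, j3, σ] 2 = r3 by simp [evL],
        p3, mul_one]⟩
  have cj : ∀ x w z : ℕ, (Nat.blt x 512 && Nat.blt w 512 && Nat.beq (MT.cj x w) z) = true →
      evL [r1, r3, i1, j1, i2, j2, i3, j3, σ] z = (evL [r1, r3, i1, j1, i2, j2, i3, j3, σ] w)⁻¹ *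
        evL [r1, r3, i1, j1, i2, j2, i3, j3, σ] x * evL [r1, r3, i1, j1, i2, j2, i3, j3, σ] w :=
    fun x w z e => by
      simp only [Bool.and_eq_true, Nat.blt_eq, Nat.beq_eq] at e
      exact e.2 ▸ C.cj_eq e.1.1 e.1.2
  rw [e] at n1 ⊢
  simp only [List.mem_cons, List.not_mem_nil, or_false] at hz
  rcases hz with rfl | rfl | rfl | rfl | rfl | rfl
  · exact absurd (by simp [evL]) n1
  · simp [evL]
  · simp [evL]
  · rw [cj 256 4 277 (by decide +kernel)]; simp [evL]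
  · rw [cj 256 8 297 (by decide +kernel)]; simp [evL]
  · rw [cj 256 12 317 (by decide +kernel)]; simp [evL]

end Cfsg.Lib.L33A
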