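import Cfsg.Agent.L33A.BA2
import Cfsg.Agent.L33A.G2
import Cfsg.Agent.L33E.Der

/-! # The structure of the quotient by `⟨r₃⟩ O(H)` -/

set_option autoImplicit false
set_option linter.unusedSectionVars false

namespace Cfsg.Lib.L33A

open Subgroup Cfsg.Lib.L33E Cfsg.Lib.Gold

universe u
variable {G : Type u} [Group G] [Finite G] {r1 r3 i1 j1 i2 j2 i3 j3 σ : G} {B : Type u} [Group B]
  {π : G →* B}

theorem BA3.fus {xs ys : List G} (h : Fus xs ys) : Fus (xs.map π) (ys.map π) := by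
  obtain ⟨g, hg⟩ := h
  exact ⟨π g, Der.cj_iff.2 (by simp [Der.cj_iff.1 hg])⟩

theorem BA3.cm (h : HC r1 r3 i1 j1 i2 j2 i3 j3 σ) (x y : ℕ)
    (e : (Nat.blt x 512 && Nat.blt y 512 && MT.cm x y) = true := by decide +kernel) :
    Commute (π (evL [r1, r3, i1, j1, i2, j2, i3, j3, σ] x))
      (π (evL [r1, r3, i1, j1, i2, j2, i3, j3, σ] y)) := by
  simp only [Bool.and_eq_true, Nat.blt_eq] at e
  exact Commute.map (((chT h.sat).cm_iff e.1.1 e.1.2).1 e.2) π

theorem BA3.bar (h : HC r1 r3 i1 j1 i2 j2 i3 j3 σ) (hπ : Function.Surjective π)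
    (hk : π.ker = zpowers r3 ⊔ Cfsg.oddCore G) :
    Bar (π r1) (π i1) (π j1) (π i2) (π j2) (π σ) (π i3) (π j3) := by
  have p3 : π r3 = 1 := by rw [← MonoidHom.mem_ker, hk]; exact mem_sup_left (mem_zpowers _)
  have z2 : r3 * r3 = 1 := by simpa [evL] using mulT h.sat 2 2 0
  have ne : ∀ x : ℕ, x < 512 ∧ x ≠ 0 ∧ x ≠ 2 →
      π (evL [r1, r3, i1, j1, i2, j2, i3, j3, σ] x) ≠ 1 := fun x hx e =>
    ((BA1.ker h hk (evL_mem _ _)).1 e).elim
      (by simpa [evL] using neC h.sat x 0 (by simp [hx])) (by simpa [evL] using neC h.sat x 2 (by simp [hx]))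
  have b2 : π j3 * π j3 = 1 := by
    rw [← map_mul, show j3 * j3 = r3 by simpa [evL] using mulT h.sat 128 128 2, p3]
  refine ⟨BA1.sat h hk, ?_, b2, by simpa [evL] using ne 64 (by simp),
    by simpa [evL] using ne 128 (by simp), fun e => ?_, ?_, fun x hx y hy => ?_, (BA1.map h hk).2.2,
    ?_, G2.odd π hπ h.cen z2 hk, BA2.sc h hπ hk, ?_, by simpa using BA3.fus (π := π) h.rho1,
    by simpa using BA3.fus (π := π) h.ef, BA2.cl h hπ hk,
    G2.quot π hπ h.cen z2 hk (by simpa [evL] using mulT h.sat 1 1 0) h.sol⟩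
  · rw [← map_mul, show i3 * i3 = r3 by simpa [evL] using mulT h.sat 64 64 2, p3]
  · exact ne 192 (by simp) (by simpa [evL, e] using b2)
  · have e : j3 * i3 = r3 * (i3 * j3) := by simpa [evL] using mulT h.sat 128 64 194
    exact (show π j3 * π i3 = π i3 * π j3 by rw [← map_mul, e, map_mul, p3, one_mul, map_mul]).symm
  · refine (Xs.comm_gen (fun b hb => (Xs.comm_gen (fun a ha => ?_) hx).symm) hy).symm
    simp only [List.mem_cons, List.not_mem_nil, or_false] at ha hb
    rcases ha with rfl | rfl | rfl | rfl | rfl | rfl <;> rcases hb with rfl | rfl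
    exacts [by simpa [evL] using BA3.cm (π := π) h 1 64, by simpa [evL] using BA3.cm (π := π) h 1 128,
      by simpa [evL] using BA3.cm (π := π) h 4 64, by simpa [evL] using BA3.cm (π := π) h 4 128,
      by simpa [evL] using BA3.cm (π := π) h 8 64, by simpa [evL] using BA3.cm (π := π) h 8 128,
      by simpa [evL] using BA3.cm (π := π) h 16 64, by simpa [evL] using BA3.cm (π := π) h 16 128,
      by simpa [evL] using BA3.cm (π := π) h 32 64, by simpa [evL] using BA3.cm (π := π) h 32 128,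
      by simpa [evL] using BA3.cm (π := π) h 256 64, by simpa [evL] using BA3.cm (π := π) h 256 128]
  · obtain ⟨T, hT⟩ := h.syl
    exact ⟨T.mapSurjective hπ, by rw [Sylow.coe_mapSurjective, hT, (BA1.map h hk).2.1]⟩
  · obtain ⟨g, hg⟩ := h.rho3
    simp only [Cj, List.forall₂_cons] at hg
    obtain ⟨e0, -, -, -, -, e1, e2, -⟩ := hg
    have e3 : g⁻¹ * r1 * g = r1 := by
      rw [← show i1 * i1 = r1 by simpa [evL] using mulT h.sat 4 4 1]
      calc _ = g⁻¹ * i1 * g * (g⁻¹ * i1 * g) := by group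
        _ = _ := by rw [e0]
    simpa using BA3.fus (π := π) (xs := [r1, i3, j3]) (ys := [r1, j3, i3 * j3])
      ⟨g, by simp [Cj, e1, e2, e3]⟩

end Cfsg.Lib.L33A
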